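import Groth.Agent.Lib.BertiniIrr4.SepClosed
import Mathlib

/-!
# The generic linear section keeps the base separably closed
-/

set_option autoImplicit false
universe u

open MvPolynomial

namespace Groth.Agent.BertiniIrr4

/-- Separability is preserved when the field is mapped into a subfield along a ring homomorphism. -/
theorem isSeparable_of_map {F F' R R' : Type*} [Field F] [Field F'] [Field R] [Field R'] [Algebra F R] [Algebra F' R']
    (ψ : F →+* F') (φ : R →+* R') (hc : (algebraMap F' R').comp ψ = φ.comp (algebraMap F R)) {e : R} (h : IsSeparable F e) :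
    IsSeparable F' (φ e) := by
  have hp : Polynomial.aeval (φ e) ((minpoly F e).map ψ) = 0 := by
    rw [Polynomial.aeval_def, Polynomial.eval₂_map, hc, ← Polynomial.hom_eval₂, ← Polynomial.aeval_def,
      minpoly.aeval, map_zero]
  exact Polynomial.Separable.of_dvd (Polynomial.Separable.map h) (minpoly.dvd _ _ hp)

/-- The inclusion of an intermediate field, along a map of fields, as a ring homomorphism. -/
def restrictHom {k R : Type*} [Field k] [Field R] [Algebra k R] (φ : R →+* R) {S : Type*} [Field S] [Algebra S R]
    (G : IntermediateField S R) (F : IntermediateField k R) (h : ∀ z ∈ F, φ z ∈ G) : F →+* G :=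
  (φ.comp (algebraMap F R)).codRestrict G fun z => h z.1 z.2

/-- Finitely generated extensions have finite separable closures. -/
theorem finiteDimensional_separableClosure (M R : Type*) [Field M] [Field R] [Algebra M R] [Algebra.EssFiniteType M R] :
    FiniteDimensional M (separableClosure M R) := by
  obtain ⟨s, hs⟩ := exists_isTranscendenceBasis M R
  set F := IntermediateField.adjoin M (s : Set R)
  haveI : Algebra.EssFiniteType F R := .of_comp M _ _
  haveI : Algebra.IsAlgebraic F R := by
    convert! hs.isAlgebraic_field <;> simp [F]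
  haveI : Module.Finite F R := Algebra.finite_of_essFiniteType_of_isAlgebraic ..
  let S := separableClosure M R
  obtain ⟨ι, ⟨b⟩⟩ := Module.Basis.exists_basis (K := M) (V := S)
  open scoped IntermediateField.algebraAdjoinAdjoin in
  have hli : LinearIndependent F (fun i => (b i : R)) := by
    rw [← LinearIndependent.iff_fractionRing (Algebra.adjoin M (s : Set R)) F]
    rw [linearIndependent_iff']
    intro T a h0 i hi
    have hx : ∀ j, ∃ p : MvPolynomial s M, aeval (fun z : s => (z : R)) p = (a j : R) := by
      intro j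
      have : (a j : R) ∈ (aeval (R := M) (fun z : s => (z : R))).range := by
        rw [← Algebra.adjoin_range_eq_range_aeval, Subtype.range_coe]
        exact (a j).2
      exact this
    choose p hp using hx
    have hsS : AlgebraicIndependent S (fun z : s => (z : R)) := hs.1.extendScalars S
    have hz : (∑ j ∈ T, C (b j) * (p j).map (algebraMap M S)) = 0 := by
      apply hsS.eq_zero_of_aeval_eq_zero
      rw [← h0, map_sum]
      refine Finset.sum_congr rfl fun j _ => ?_
      rw [map_mul, aeval_C, aeval_map_algebraMap, hp, Algebra.smul_def, mul_comm]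
      rfl
    have hpi : p i = 0 := by
      ext d
      have hc := congrArg (MvPolynomial.coeff d) hz
      simp only [coeff_sum, coeff_C_mul, coeff_map, coeff_zero] at hc
      have h1 : ∑ j ∈ T, (p j).coeff d • b j = 0 := by
        rw [← hc]
        exact Finset.sum_congr rfl fun j _ => by rw [Algebra.smul_def, mul_comm]
      exact linearIndependent_iff'.1 b.linearIndependent T _ h1 i hi
    apply Subtype.ext
    rw [← hp i, hpi, map_zero]
    rfl
  haveI := hli.finite
  exact Module.Finite.of_basis b

section

variable {k K : Type u} [Field k] [Field K] [Algebra k K] {n : Type} [Fintype n]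

/-- The shift `X i ↦ X i + c i * h`. -/
noncomputable def shift (c : n → K) (h : MvPolynomial n K) : MvPolynomial n K →ₐ[K] MvPolynomial n K :=
  aeval fun i => X i + C (c i) * h

theorem shift_linear (c a : n → K) (hac : ∑ i, a i * c i = 0) (h : MvPolynomial n K) :
    shift c h (∑ i, C (a i) * X i) = ∑ i, C (a i) * X i := by
  simp only [shift, map_sum, map_mul, aeval_C, aeval_X, algebraMap_eq, mul_add, Finset.sum_add_distrib, add_eq_left]
  calc ∑ i, C (a i) * (C (c i) * h) = ∑ i, C (a i * c i) * h :=
        Finset.sum_congr rfl fun i _ => by rw [map_mul, mul_assoc]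
    _ = 0 := by rw [← Finset.sum_mul, ← map_sum, hac, map_zero, zero_mul]

theorem shift_comp (c : n → K) (h : MvPolynomial n K) (hh : ∀ h', shift c h' h = h) :
    (shift c (-h)).comp (shift c h) = AlgHom.id K _ := by
  apply algHom_ext
  intro i
  have := hh (-h)
  simp only [shift] at this ⊢
  simp only [AlgHom.comp_apply, aeval_X, map_add, map_mul, aeval_C, algebraMap_eq, AlgHom.id_apply, this]
  ring

/-- Conjugate automorphisms of `K(x)` moving the generic linear form along `c`. -/
theorem exists_shift (c : n → k) (g : n → K) {R : Type u} [Field R] [Algebra K R] [Algebra (MvPolynomial n K) R]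
    [IsScalarTower K (MvPolynomial n K) R] [IsFractionRing (MvPolynomial n K) R]
    (a : n → k) (hac : ∑ i, a i * c i = 0) (j : ℕ) :
    ∃ τ : R ≃ₐ[K] R,
      (∀ i, τ (algebraMap (MvPolynomial n K) R (X i)) = algebraMap (MvPolynomial n K) R (X i) +
        algebraMap K R (algebraMap k K (c i)) * (∑ i, algebraMap K R (algebraMap k K (a i)) * algebraMap (MvPolynomial n K) R (X i)) ^ j) ∧
      τ (∑ i, algebraMap K R (algebraMap k K (a i)) * algebraMap (MvPolynomial n K) R (X i)) =
        ∑ i, algebraMap K R (algebraMap k K (a i)) * algebraMap (MvPolynomial n K) R (X i) ∧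
      τ (∑ i, algebraMap K R (g i) * algebraMap (MvPolynomial n K) R (X i)) =
        (∑ i, algebraMap K R (g i) * algebraMap (MvPolynomial n K) R (X i)) +
        (∑ i, algebraMap K R (algebraMap k K (a i)) * algebraMap (MvPolynomial n K) R (X i)) ^ j * algebraMap K R (∑ i, c i • g i) := by
  set c' : n → K := fun i => algebraMap k K (c i)
  set a' : n → K := fun i => algebraMap k K (a i)
  have hac' : ∑ i, a' i * c' i = 0 := by simp only [a', c', ← map_mul, ← map_sum, hac, map_zero]
  set l : MvPolynomial n K := ∑ i, C (a' i) * X i with hl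
  have hh : ∀ h', shift c' h' (l ^ j) = l ^ j := fun h' => by rw [map_pow, shift_linear c' a' hac']
  have hh' : ∀ h', shift c' h' (-l ^ j) = -l ^ j := fun h' => by rw [map_neg, hh]
  have e2 := shift_comp c' (-l ^ j) hh'
  rw [neg_neg] at e2
  let σ : MvPolynomial n K ≃ₐ[K] MvPolynomial n K :=
    AlgEquiv.ofAlgHom (shift c' (l ^ j)) (shift c' (-l ^ j)) e2 (shift_comp c' (l ^ j) hh)
  let τ : R ≃ₐ[K] R := IsFractionRing.fieldEquivOfAlgEquiv K R R σ
  have hcoe : ∀ p, τ (algebraMap (MvPolynomial n K) R p) = algebraMap (MvPolynomial n K) R (shift c' (l ^ j) p) :=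
    fun p => IsFractionRing.fieldEquivOfAlgEquiv_algebraMap K R R σ p
  have hC : ∀ z : K, algebraMap (MvPolynomial n K) R (C z) = algebraMap K R z := fun z => by
    rw [IsScalarTower.algebraMap_apply K (MvPolynomial n K) R]; rfl
  have hl' : algebraMap (MvPolynomial n K) R l = ∑ i, algebraMap K R (a' i) * algebraMap (MvPolynomial n K) R (X i) := by
    simp only [hl, map_sum, map_mul, hC]
  have hX : ∀ i, τ (algebraMap (MvPolynomial n K) R (X i)) = algebraMap (MvPolynomial n K) R (X i) +
      algebraMap K R (c' i) * (∑ i, algebraMap K R (a' i) * algebraMap (MvPolynomial n K) R (X i)) ^ j := fun i => by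
    rw [hcoe, shift, aeval_X, map_add, map_mul, map_pow, hl', hC]
  refine ⟨τ, hX, ?_, ?_⟩
  · show τ (∑ i, algebraMap K R (a' i) * _) = _
    rw [← hl', hcoe, hl, shift_linear c' a' hac']
  · rw [map_sum]
    simp only [map_mul, AlgEquiv.commutes, hX, mul_add, Finset.sum_add_distrib]
    congr 1
    rw [map_sum, Finset.mul_sum]
    refine Finset.sum_congr rfl fun i _ => ?_
    rw [Algebra.smul_def, map_mul]
    ring

end

/-- Two independent combinations: one is transcendental over the field of the other. -/
theorem transcendental_of_pair {L R : Type u} [Field L] [Field R] [Algebra L R] {t w : R}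
    (h : AlgebraicIndependent L ![t, w]) {p q : L} (hpq : p ≠ q) :
    Transcendental (IntermediateField.adjoin L {t + algebraMap L R p * w}) (t + algebraMap L R q * w) := by
  have hw : AlgebraicIndependent L ![t + algebraMap L R p * w, t + algebraMap L R q * w] := by
    let φ : MvPolynomial (Fin 2) L →ₐ[L] MvPolynomial (Fin 2) L := aeval ![X 0 + C p * X 1, X 0 + C q * X 1]
    let ψ : MvPolynomial (Fin 2) L →ₐ[L] MvPolynomial (Fin 2) L :=
      aeval ![C (q - p)⁻¹ * (C q * X 0 - C p * X 1), C (q - p)⁻¹ * (X 1 - X 0)]
    have hne : C (σ := Fin 2) (q - p)⁻¹ * (C q - C p) = 1 := by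
      rw [← C_sub, ← C_mul, inv_mul_cancel₀ (sub_ne_zero.2 hpq.symm), C_1]
    have hinv : ψ.comp φ = AlgHom.id L _ := by
      apply algHom_ext
      intro i
      fin_cases i
      · simp [φ, ψ]; linear_combination (X (R := L) (0 : Fin 2)) * hne
      · simp [φ, ψ]; linear_combination (X (R := L) (1 : Fin 2)) * hne
    have : aeval ![t + algebraMap L R p * w, t + algebraMap L R q * w] = (aeval ![t, w]).comp φ := by
      apply algHom_ext
      intro i
      fin_cases i <;> simp [φ]
    rw [AlgebraicIndependent, this, AlgHom.coe_comp]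
    exact Function.Injective.comp h (Function.LeftInverse.injective (g := ⇑ψ) (f := ⇑φ) fun z =>
      congrArg (fun f : MvPolynomial (Fin 2) L →ₐ[L] MvPolynomial (Fin 2) L => f z) hinv)
  have := hw.transcendental_adjoin (s := {0}) (i := 1) (by decide)
  intro halg
  apply this
  rw [Set.image_singleton]
  exact IntermediateField.isAlgebraic_adjoin_iff.1 halg

set_option maxHeartbeats 800000 in
/-- The exchange step. -/
theorem exchange {L R : Type u} [Field L] [Field R] [Algebra L R] (hL : ∀ z : R, IsSeparable L z → z ∈ Set.range (algebraMap L R))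
    {t w : R} (h : AlgebraicIndependent L ![t, w]) {p q : L} (hpq : p ≠ q) {e e' : R}
    (he : IsSeparable (IntermediateField.adjoin L {t + algebraMap L R q * w}) e)
    (he' : IsSeparable (IntermediateField.adjoin L {t + algebraMap L R p * w}) e')
    (hmem : e ∈ IntermediateField.adjoin L ({t, w} ∪ {e'})) :
    e ∈ IntermediateField.adjoin L {t + algebraMap L R q * w} := by
  have htr := transcendental_of_pair h hpq
  set a := t + algebraMap L R p * w with ha
  set b := t + algebraMap L R q * w with hb
  let P := IntermediateField.adjoin L {a}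
  let E := IntermediateField.adjoin P {e'}
  haveI : Algebra.IsAlgebraic P E :=
    (IntermediateField.isAlgebraic_adjoin_iff_isAlgebraic P R).2 fun z hz => by
      rw [Set.mem_singleton_iff.1 hz]; exact he'.isIntegral.isAlgebraic
  have hv : AlgebraicIndependent E (fun _ : PUnit.{1} => b) := by
    rw [algebraicIndependent_unique_type_iff]
    exact fun hh => htr (hh.restrictScalars P)
  haveI : IsScalarTower L E R := IsScalarTower.of_algebraMap_eq fun z => rfl
  have hEsep : ∀ z : E, IsSeparable L z → z ∈ Set.range (algebraMap L E) := by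
    intro z hz
    obtain ⟨c, hc⟩ := hL (z : R) (IsSeparable.map (IsScalarTower.toAlgHom L E R) (algebraMap E R).injective hz)
    exact ⟨c, Subtype.ext hc⟩
  have hin : e ∈ IntermediateField.adjoin E (Set.range fun _ : PUnit.{1} => b) := by
    set G := IntermediateField.adjoin E (Set.range fun _ : PUnit.{1} => b)
    have hLG : ∀ z : L, algebraMap L R z ∈ G := fun z => G.algebraMap_mem (algebraMap L E z)
    have hb' : b ∈ G := IntermediateField.subset_adjoin E _ ⟨PUnit.unit, rfl⟩
    have ha' : a ∈ G := G.algebraMap_mem (algebraMap P E ⟨_, IntermediateField.mem_adjoin_simple_self L _⟩)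
    have h0 : algebraMap L R q - algebraMap L R p ≠ 0 := sub_ne_zero.2 fun h => hpq ((algebraMap L R).injective h.symm)
    have hw : w ∈ G := by
      rw [show w = (algebraMap L R q - algebraMap L R p)⁻¹ * (b - a) by rw [ha, hb]; field_simp; ring]
      exact mul_mem (inv_mem (sub_mem (hLG q) (hLG p))) (sub_mem hb' ha')
    have ht : t ∈ G := by
      rw [show t = a - algebraMap L R p * w by rw [ha]; ring]
      exact sub_mem ha' (mul_mem (hLG p) hw)
    have hG : IntermediateField.adjoin L ({t, w} ∪ {e'}) ≤ G.restrictScalars L := by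
      rw [IntermediateField.adjoin_le_iff]
      rintro z ((hz | hz) | hz)
      · rw [hz]; exact ht
      · rw [Set.mem_singleton_iff.1 hz]; exact hw
      · rw [Set.mem_singleton_iff.1 hz]
        exact G.algebraMap_mem (⟨_, IntermediateField.mem_adjoin_simple_self P _⟩ : E)
    exact hG hmem
  have hr := mem_adjoin_of_isSeparable (k := L) (K := E) hEsep (fun _ : PUnit.{1} => b) hv hin
    (by rw [Set.range_const]; exact he)
  rwa [Set.range_const] at hr

section

variable {k K : Type u} [Field k] [Field K] [Algebra k K] {m : ℕ}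

local notation "n" => Fin (m + 1)
local notation "𝑅" => FractionRing (MvPolynomial (Fin (m + 1)) K)
local notation "x" => fun i : Fin (m + 1) => algebraMap (MvPolynomial (Fin (m + 1)) K) 𝑅 (MvPolynomial.X i)

set_option maxHeartbeats 1600000 in
theorem separable_mem_generic (hfg : (⊤ : IntermediateField k K).FG)
    (hsep : ∀ a : K, IsSeparable k a → a ∈ Set.range (algebraMap k K))
    (g : n → K) (c : n → k)
    (hind : AlgebraicIndependent k (Sum.elim (x)
      ![∑ i, algebraMap K 𝑅 (g i) * algebraMap (MvPolynomial n K) 𝑅 (MvPolynomial.X i), algebraMap K 𝑅 (∑ i, c i • g i)]))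
    (e₀ : 𝑅) (he₀ : IsSeparable (IntermediateField.adjoin k
      (Set.range (x) ∪ {∑ i, algebraMap K 𝑅 (g i) * algebraMap (MvPolynomial n K) 𝑅 (MvPolynomial.X i)})) e₀) :
    e₀ ∈ IntermediateField.adjoin k
      (Set.range (x) ∪ {∑ i, algebraMap K 𝑅 (g i) * algebraMap (MvPolynomial n K) 𝑅 (MvPolynomial.X i)}) := by
  classical
  set t : 𝑅 := ∑ i, algebraMap K 𝑅 (g i) * algebraMap (MvPolynomial n K) 𝑅 (MvPolynomial.X i) with ht
  set w : 𝑅 := algebraMap K 𝑅 (∑ i, c i • g i) with hwdef
  let L := IntermediateField.adjoin k (Set.range (x))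
  have hx : AlgebraicIndependent K (x) :=
    (MvPolynomial.algebraicIndependent_X n K).map' (f := IsScalarTower.toAlgHom K (MvPolynomial n K) 𝑅)
      (IsFractionRing.injective (MvPolynomial n K) 𝑅)
  have hxtop : ∀ z : 𝑅, z ∈ IntermediateField.adjoin K (Set.range (x)) := by
    intro z
    obtain ⟨p, q, -, rfl⟩ := IsFractionRing.div_surjective (MvPolynomial n K) z
    have : ∀ p : MvPolynomial n K, algebraMap (MvPolynomial n K) 𝑅 p ∈ IntermediateField.adjoin K (Set.range (x)) := by
      intro p
      apply IntermediateField.algebra_adjoin_le_adjoin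
      rw [Algebra.adjoin_range_eq_range_aeval]
      exact ⟨p, congrFun (congrArg DFunLike.coe (algHom_ext (f := aeval (x)) (g := IsScalarTower.toAlgHom K (MvPolynomial n K) 𝑅) fun i => by simp)) p⟩
    exact div_mem (this p) (this q)
  have hLsep : ∀ z : 𝑅, IsSeparable L z → z ∈ L := fun z hz =>
    mem_adjoin_of_isSeparable hsep (x) hx (hxtop z) hz
  have hxL : ∀ i, algebraMap (MvPolynomial n K) 𝑅 (MvPolynomial.X i) ∈ L :=
    fun i => IntermediateField.subset_adjoin k _ ⟨i, rfl⟩
  have hkL : ∀ z : k, algebraMap K 𝑅 (algebraMap k K z) ∈ L := fun z => by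
    rw [← IsScalarTower.algebraMap_apply]; exact L.algebraMap_mem z
  have htw : AlgebraicIndependent L ![t, w] := by
    have h' : AlgebraicIndependent k (Sum.elim ![t, w] (x)) := by
      have := hind.comp Sum.swap Sum.swap_leftInverse.injective
      convert! this using 1
      ext (_ | _) <;> rfl
    open scoped IntermediateField.algebraAdjoinAdjoin in
    haveI : Algebra.IsAlgebraic (Algebra.adjoin k (Set.range (x))) L :=
      IsLocalization.isAlgebraic _ (nonZeroDivisors (Algebra.adjoin k (Set.range (x))))
    open scoped IntermediateField.algebraAdjoinAdjoin in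
    exact (AlgebraicIndependent.sumElim_iff.1 h').2.extendScalars L
  obtain ⟨a, hac, ha⟩ : ∃ a : n → k, ∑ i, a i * c i = 0 ∧ a ≠ 0 := by
    have hm : 0 < m := by
      by_contra h0
      have hsum : ∀ {A : Type u} [AddCommMonoid A] (f : n → A), ∑ i, f i = f 0 := fun f =>
        Fintype.sum_eq_single 0 fun i hi => absurd (Fin.ext (by have := i.2; simp only [Fin.val_zero]; omega)) hi
      have hli := htw.linearIndependent
      rw [LinearIndependent.pair_iff] at hli
      have := hli ⟨_, hkL (c 0)⟩ (-⟨_, hxL 0⟩) (by
        simp only [Algebra.smul_def, ht, hwdef, hsum, map_mul, map_neg]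
        show algebraMap K 𝑅 _ * _ + -(algebraMap (MvPolynomial n K) 𝑅 (MvPolynomial.X 0)) * _ = 0
        ring)
      have h2 := congrArg (fun z : L => (z : 𝑅)) this.2
      simp at h2
    let Φ : (n → k) →ₗ[k] k := ∑ i, c i • LinearMap.proj i
    obtain ⟨a, ha, ha0⟩ := Submodule.exists_mem_ne_zero_of_ne_bot
      (LinearMap.ker_ne_bot_of_finrank_lt (f := Φ) (by simp; omega))
    refine ⟨a, ?_, ha0⟩
    have : Φ a = 0 := ha
    simpa [Φ, mul_comm] using this
  set l : 𝑅 := ∑ i, algebraMap K 𝑅 (algebraMap k K (a i)) * algebraMap (MvPolynomial n K) 𝑅 (MvPolynomial.X i) with hl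
  have hlL : l ∈ L := sum_mem fun i _ => mul_mem (hkL _) (hxL i)
  have hldist : ∀ i j : ℕ, i < j → l ^ i ≠ l ^ j := by
    intro i j hij he
    let l' : MvPolynomial n K := ∑ i, C (algebraMap k K (a i)) * MvPolynomial.X i
    have hll : algebraMap (MvPolynomial n K) 𝑅 l' = l := by
      simp only [l', hl, map_sum, map_mul]
      refine Finset.sum_congr rfl fun i _ => ?_
      rw [IsScalarTower.algebraMap_apply K (MvPolynomial n K) 𝑅]; rfl
    rw [← hll, ← map_pow, ← map_pow] at he
    have he' := IsFractionRing.injective (MvPolynomial n K) 𝑅 he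
    have hl0 : l' ≠ 0 := by
      intro h0
      obtain ⟨i, hi⟩ := Function.ne_iff.1 ha
      have := congrArg (MvPolynomial.coeff (Finsupp.single i 1)) h0
      simp [l', coeff_sum, coeff_C_mul, coeff_X', Finsupp.single_left_inj] at this
      exact hi this
    rw [← Nat.add_sub_of_le hij.le, pow_add] at he'
    have h1 := (mul_eq_left₀ (pow_ne_zero _ hl0)).1 he'.symm
    have h2 := congrArg constantCoeff h1
    rw [map_pow, map_one, show constantCoeff l' = 0 by simp [l'], zero_pow (by omega)] at h2
    exact zero_ne_one h2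
  choose τ hτX hτl hτt using fun j => exists_shift (R := 𝑅) c g a hac j
  simp only [← hl, ← ht, ← hwdef] at hτX hτl hτt
  clear_value l t w
  set F₀ := IntermediateField.adjoin k (Set.range (x) ∪ {t})
  let w' : ℕ → 𝑅 := fun j => t + l ^ j * w
  let F : ℕ → IntermediateField k 𝑅 := fun j => IntermediateField.adjoin k (Set.range (x) ∪ {w' j})
  let M := IntermediateField.adjoin k (Set.range (x) ∪ {t, w})
  have hLF : ∀ j, L ≤ F j := fun j => IntermediateField.adjoin.mono _ _ _ Set.subset_union_left
  have hto : ∀ j, ∀ z ∈ F₀, τ j z ∈ F j := by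
    intro j
    have : F₀ ≤ (F j).comap ((τ j).toAlgHom.restrictScalars k) := by
      rw [IntermediateField.adjoin_le_iff]
      rintro z (⟨i, rfl⟩ | h)
      · show τ j _ ∈ F j
        rw [hτX]; exact hLF j (add_mem (hxL i) (mul_mem (hkL _) (pow_mem hlL j)))
      · rw [Set.mem_singleton_iff.1 h]
        show τ j t ∈ F j
        rw [hτt]; exact IntermediateField.subset_adjoin k _ (Or.inr rfl)
    exact fun z hz => this hz
  have hfrom : ∀ j, ∀ z ∈ F j, (τ j).symm z ∈ F₀ := by
    intro j
    have : F j ≤ F₀.comap ((τ j).symm.toAlgHom.restrictScalars k) := by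
      rw [IntermediateField.adjoin_le_iff]
      rintro z (⟨i, rfl⟩ | rfl)
      · show (τ j).symm _ ∈ F₀
        have : (τ j).symm (algebraMap (MvPolynomial n K) 𝑅 (MvPolynomial.X i)) = algebraMap (MvPolynomial n K) 𝑅 (MvPolynomial.X i) -
            algebraMap K 𝑅 (algebraMap k K (c i)) * l ^ j := by
          rw [AlgEquiv.symm_apply_eq, map_sub, map_mul, map_pow, AlgEquiv.commutes, hτX, hτl]; ring
        rw [this]
        exact IntermediateField.adjoin.mono _ _ _ Set.subset_union_left (sub_mem (hxL i) (mul_mem (hkL _) (pow_mem hlL j)))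
      · show (τ j).symm (w' j) ∈ F₀
        rw [show (τ j).symm (w' j) = t by rw [AlgEquiv.symm_apply_eq, hτt]]
        exact IntermediateField.subset_adjoin k _ (Or.inr rfl)
    exact fun z hz => this hz
  let e : ℕ → 𝑅 := fun j => τ j e₀
  have hsepF : ∀ j, IsSeparable (F j) (e j) := fun j =>
    isSeparable_of_map (restrictHom (τ j).toAlgHom.toRingHom (F j) F₀ (hto j)) (τ j).toAlgHom.toRingHom rfl he₀
  have hFM : ∀ j, ∀ z ∈ F j, z ∈ M := by
    intro j
    have : F j ≤ M := by
      rw [IntermediateField.adjoin_le_iff]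
      rintro z (⟨i, rfl⟩ | rfl)
      · exact IntermediateField.subset_adjoin k _ (Or.inl ⟨i, rfl⟩)
      · exact add_mem (IntermediateField.subset_adjoin k _ (Or.inr (Or.inl rfl)))
          (mul_mem (IntermediateField.adjoin.mono _ _ _ Set.subset_union_left (pow_mem hlL j))
            (IntermediateField.subset_adjoin k _ (Or.inr (Or.inr rfl))))
    exact fun z hz => this hz
  have hsepM : ∀ j, IsSeparable M (e j) := fun j =>
    isSeparable_of_map (restrictHom (RingHom.id 𝑅) M (F j) (hFM j)) (RingHom.id 𝑅) rfl (hsepF j)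
  haveI : Algebra.EssFiniteType k K := IntermediateField.fg_top_iff.1 hfg
  haveI : Algebra.EssFiniteType k (MvPolynomial n K) := .comp k K _
  haveI : Algebra.EssFiniteType (MvPolynomial n K) 𝑅 := .of_isLocalization _ (nonZeroDivisors (MvPolynomial n K))
  haveI : Algebra.EssFiniteType k 𝑅 := .comp k (MvPolynomial n K) _
  haveI : Algebra.EssFiniteType M 𝑅 := .of_comp k _ _
  haveI := finiteDimensional_separableClosure M 𝑅
  let S := separableClosure M 𝑅
  haveI : Finite (IntermediateField M S) :=
    Field.finite_intermediateField_of_exists_primitive_element M S (Field.exists_primitive_element M S)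
  obtain ⟨j, j', hne, heq⟩ := Finite.exists_ne_map_eq_of_infinite
    (fun j => IntermediateField.adjoin M {(⟨e j, mem_separableClosure_iff.2 (hsepM j)⟩ : S)})
  have hmem : e j ∈ IntermediateField.adjoin M {e j'} := by
    have h1 := congrArg (IntermediateField.map S.val) heq
    simp only [IntermediateField.adjoin_map, Set.image_singleton] at h1
    have : e j ∈ IntermediateField.adjoin M {e j} := IntermediateField.mem_adjoin_simple_self _ _
    exact h1 ▸ this
  let p : L := ⟨l ^ j', pow_mem hlL j'⟩
  let q : L := ⟨l ^ j, pow_mem hlL j⟩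
  have hpq : p ≠ q := fun h => by
    have h' : l ^ j' = l ^ j := congrArg Subtype.val h
    rcases lt_or_gt_of_ne hne with h'' | h''
    · exact hldist _ _ h'' h'.symm
    · exact hldist _ _ h'' h'
  let P := IntermediateField.adjoin L {w' j'}
  let Q := IntermediateField.adjoin L {w' j}
  have hp : algebraMap L 𝑅 p = l ^ j' := rfl
  have hq : algebraMap L 𝑅 q = l ^ j := rfl
  have hFP : ∀ i, ∀ z ∈ F i, z ∈ IntermediateField.adjoin L {w' i} := by
    intro i z hz
    have := IntermediateField.adjoin_adjoin_left k (Set.range (x)) {w' i}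
    rw [← IntermediateField.mem_restrictScalars k, this]
    exact hz
  have hPsep : IsSeparable P (e j') :=
    isSeparable_of_map (restrictHom (RingHom.id 𝑅) P (F j') (hFP j')) (RingHom.id 𝑅) rfl (hsepF j')
  have hQsep : IsSeparable Q (e j) :=
    isSeparable_of_map (restrictHom (RingHom.id 𝑅) Q (F j) (hFP j)) (RingHom.id 𝑅) rfl (hsepF j)
  have hmem' : e j ∈ IntermediateField.adjoin L ({t, w} ∪ {e j'}) := by
    rw [← IntermediateField.mem_restrictScalars k] at hmem ⊢
    rw [IntermediateField.adjoin_adjoin_left] at hmem ⊢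
    rwa [← Set.union_assoc]
  have hr := exchange (fun z hz => ⟨⟨z, hLsep z hz⟩, rfl⟩) htw hpq (e := e j) (e' := e j') (by rw [hq]; exact hQsep) (by rw [hp]; exact hPsep) hmem'
  rw [hq] at hr
  have : e j ∈ F j := by
    have h' := IntermediateField.adjoin_adjoin_left k (Set.range (x)) {w' j}
    show e j ∈ IntermediateField.adjoin k (Set.range (x) ∪ {w' j})
    rw [← h']; exact hr
  simpa [e] using hfrom j _ this

end

end Groth.Agent.BertiniIrr4
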