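import Mathlib

/-!
# Separably closed subfields stay so after adjoining independent transcendentals
-/

set_option autoImplicit false
universe u v

open MvPolynomial

attribute [local instance] MvPolynomial.algebraMvPolynomial

namespace Groth.Agent.BertiniIrr4

variable {k K R : Type u} [Field k] [Field K] [Field R] [Algebra k K] [Algebra k R] [Algebra K R] [IsScalarTower k K R]
  {σ : Type v}

/-- A polynomial integral over the polynomials with coefficients in `k` has algebraic coefficients. -/
theorem isAlgebraic_coeff_of_isIntegral (p : MvPolynomial σ K) (hp : IsIntegral (MvPolynomial σ k) p) (d : σ →₀ ℕ) :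
    IsAlgebraic k (p.coeff d) := by
  classical
  let Ω := AlgebraicClosure K
  let M : IntermediateField k Ω := algebraicClosure k Ω
  haveI : IsAlgClosed M := (algebraicClosure.isAlgClosure k Ω).isAlgClosed
  have hev : ∀ l : σ → M, eval₂ (algebraMap K Ω) (fun i => (l i : Ω)) p ∈ M := by
    intro l
    obtain ⟨q, hq, hq0⟩ := hp
    let χ : MvPolynomial σ K →+* Ω := eval₂Hom (algebraMap K Ω) (fun i => (l i : Ω))
    let χ' : MvPolynomial σ k →+* M := eval₂Hom (algebraMap k M) l
    have hc : χ.comp (algebraMap (MvPolynomial σ k) (MvPolynomial σ K)) = (algebraMap M Ω).comp χ' := by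
      ext x
      · simp [χ, χ', ← IsScalarTower.algebraMap_apply]
      · simp [χ, χ']
    have hint : IsIntegral M (χ p) := ⟨q.map χ', hq.map _, by
      rw [Polynomial.eval₂_map, ← hc, ← Polynomial.hom_eval₂, hq0, map_zero]⟩
    rw [mem_algebraicClosure_iff, isAlgebraic_iff_isIntegral]
    exact isIntegral_trans (R := k) (A := M) _ hint
  by_contra hcon
  have hnm : algebraMap K Ω (p.coeff d) ∉ LinearMap.range (Algebra.linearMap M Ω) := by
    rintro ⟨w, hw⟩
    apply hcon
    rw [← isAlgebraic_algebraMap_iff (A := Ω) (algebraMap K Ω).injective, ← hw]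
    exact mem_algebraicClosure_iff.1 w.2
  obtain ⟨ψ, hψ, hψ0⟩ := Submodule.exists_dual_map_eq_bot_of_notMem hnm inferInstance
  let q : MvPolynomial σ M := ∑ e ∈ p.support, monomial e (ψ (algebraMap K Ω (p.coeff e)))
  have hq : q = 0 := by
    refine MvPolynomial.funext fun l => ?_
    rw [map_zero]
    have h1 : ψ (eval₂ (algebraMap K Ω) (fun i => (l i : Ω)) p) = eval l q := by
      rw [eval₂_eq, map_sum, eval_sum]
      refine Finset.sum_congr rfl fun e _ => ?_
      have : algebraMap K Ω (p.coeff e) * ∏ i ∈ e.support, (l i : Ω) ^ e i =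
          (∏ i ∈ e.support, l i ^ e i) • algebraMap K Ω (p.coeff e) := by
        rw [Algebra.smul_def, mul_comm]
        congr 1
        simp
      rw [this, map_smul, eval_monomial, smul_eq_mul, mul_comm]
      rfl
    rw [← h1]
    have : ψ (eval₂ (algebraMap K Ω) (fun i => (l i : Ω)) p) ∈
        Submodule.map ψ (LinearMap.range (Algebra.linearMap M Ω)) := ⟨_, ⟨⟨_, hev l⟩, rfl⟩, rfl⟩
    rwa [hψ0, Submodule.mem_bot] at this
  apply hψ
  have := congrArg (MvPolynomial.coeff d) hq
  simp only [q, coeff_sum, coeff_monomial, coeff_zero, Finset.sum_ite_eq'] at this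
  split_ifs at this with h
  · exact this
  · rw [notMem_support_iff.1 h, map_zero, map_zero]

/-- If all coefficients are purely inseparable over `k`, a power of the polynomial has coefficients in `k`. -/
theorem exists_pow_eq_map (q : ℕ) [ExpChar k q] (p : MvPolynomial σ K)
    (h : ∀ a : K, IsAlgebraic k a → ∃ n, a ^ q ^ n ∈ (algebraMap k K).range)
    (hp : ∀ d, IsAlgebraic k (p.coeff d)) : ∃ n, ∃ p' : MvPolynomial σ k, p'.map (algebraMap k K) = p ^ q ^ n := by
  haveI : ExpChar K q := expChar_of_injective_algebraMap (algebraMap k K).injective q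
  haveI : ExpChar (MvPolynomial σ K) q :=
    expChar_of_injective_ringHom (C_injective σ K) q
  rw [p.as_sum]
  refine Finset.sum_induction _ (fun x => ∃ n, ∃ p' : MvPolynomial σ k, p'.map (algebraMap k K) = x ^ q ^ n) ?_ ⟨0, 0, by simp⟩ fun e _ => ?_
  · rintro a b ⟨n, a', ha⟩ ⟨n', b', hb⟩
    refine ⟨n + n', a' ^ q ^ n' + b' ^ q ^ n, ?_⟩
    rw [map_add, map_pow, map_pow, ha, hb, ← pow_mul, ← pow_mul, ← pow_add, ← pow_add, add_comm n' n, add_pow_expChar_pow]
  · obtain ⟨n, c, hc⟩ := h _ (hp e)
    exact ⟨n, monomial (q ^ n • e) c, by rw [map_monomial, hc, monomial_pow]⟩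

/-- If `k` is separably closed in `K` then `k(v)` is separably closed in `K(v)`. -/
theorem mem_adjoin_of_isSeparable (hsep : ∀ a : K, IsSeparable k a → a ∈ Set.range (algebraMap k K))
    (v : σ → R) (hv : AlgebraicIndependent K v) {e : R} (he : e ∈ IntermediateField.adjoin K (Set.range v))
    (hs : IsSeparable (IntermediateField.adjoin k (Set.range v)) e) :
    e ∈ IntermediateField.adjoin k (Set.range v) := by
  set F := IntermediateField.adjoin k (Set.range v) with hF
  obtain ⟨q, hq⟩ := ExpChar.exists k
  haveI : ExpChar R q := expChar_of_injective_algebraMap (algebraMap k R).injective q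
  haveI : ExpChar F q := expChar_of_injective_algebraMap (algebraMap k F).injective q
  have hpi : ∀ a : K, IsAlgebraic k a → ∃ n, a ^ q ^ n ∈ (algebraMap k K).range := by
    intro a ha
    let AC := algebraicClosure k K
    haveI : IsPurelyInseparable k AC := by
      refine ⟨Algebra.IsAlgebraic.isIntegral, fun x hx => ?_⟩
      obtain ⟨c, hc⟩ := hsep x.1 (IsSeparable.map (IntermediateField.val AC) (IntermediateField.val AC).toRingHom.injective hx)
      exact ⟨c, Subtype.ext hc⟩
    obtain ⟨n, c, hc⟩ := IsPurelyInseparable.pow_mem k q (⟨a, mem_algebraicClosure_iff.2 ha⟩ : AC)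
    exact ⟨n, c, congrArg Subtype.val hc⟩
  letI : Algebra (MvPolynomial σ K) R := (aeval v).toRingHom.toAlgebra
  letI : Algebra (MvPolynomial σ k) R := (aeval (R := k) v).toRingHom.toAlgebra
  haveI : IsScalarTower (MvPolynomial σ k) (MvPolynomial σ K) R := IsScalarTower.of_algebraMap_eq' (by
    ext x
    · simp [RingHom.algebraMap_toAlgebra, ← IsScalarTower.algebraMap_apply]
    · simp [RingHom.algebraMap_toAlgebra])
  have halg : IsAlgebraic (MvPolynomial σ k) e := by
    have h1 : IsAlgebraic (Algebra.adjoin k (Set.range v)) e :=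
      IntermediateField.isAlgebraic_adjoin_iff.1 hs.isIntegral.isAlgebraic
    rw [Algebra.adjoin_range_eq_range_aeval] at h1
    let ev := (aeval (R := k) v).rangeRestrict.toRingHom
    obtain ⟨g, hg0, hg⟩ := h1
    have hsurj : Function.Surjective (Polynomial.map (ev)) := Polynomial.map_surjective _ (AlgHom.rangeRestrict_surjective _)
    obtain ⟨g', hg'⟩ := hsurj g
    refine ⟨g', fun h => hg0 (by rw [← hg', h, Polynomial.map_zero]), ?_⟩
    rw [← hg, ← hg', Polynomial.aeval_def, Polynomial.aeval_def, Polynomial.eval₂_map]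
    rfl
  obtain ⟨y, hy, hint⟩ := halg.exists_integral_multiple
  have hyR : aeval (R := k) v y ≠ 0 := fun h => hy ((hv.restrictScalars (algebraMap k K).injective).eq_zero_of_aeval_eq_zero _ h)
  have hyF : aeval (R := k) v y ∈ F := by
    apply IntermediateField.algebra_adjoin_le_adjoin
    rw [Algebra.adjoin_range_eq_range_aeval]
    exact ⟨y, rfl⟩
  obtain ⟨a, b, hab⟩ := (IntermediateField.mem_adjoin_range_iff K v e).1 he
  let φ : FractionRing (MvPolynomial σ K) →ₐ[MvPolynomial σ K] R :=
    IsFractionRing.liftAlgHom (g := Algebra.ofId (MvPolynomial σ K) R) hv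
  let f : FractionRing (MvPolynomial σ K) := algebraMap (MvPolynomial σ K) _ (algebraMap _ (MvPolynomial σ K) y * a) / algebraMap (MvPolynomial σ K) _ b
  have hφ : φ f = y • e := by
    rw [map_div₀, AlgHom.commutes, AlgHom.commutes, map_mul, ← IsScalarTower.algebraMap_apply, Algebra.smul_def, hab, mul_div_assoc]
    rfl
  have hf : IsIntegral (MvPolynomial σ K) f :=
    (isIntegral_algHom_iff φ φ.toRingHom.injective).1 (hφ ▸ hint.tower_top)
  obtain ⟨p, hp⟩ := IsIntegrallyClosed.algebraMap_eq_of_integral hf
  have hpe : aeval v p = y • e := by rw [← hφ, ← hp, AlgHom.commutes]; rfl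
  have hpint : IsIntegral (MvPolynomial σ k) p :=
    (isIntegral_algHom_iff (IsScalarTower.toAlgHom (MvPolynomial σ k) (MvPolynomial σ K) R) hv).1 (by
      show IsIntegral _ (aeval v p)
      rwa [hpe])
  obtain ⟨n, p', hp'⟩ := exists_pow_eq_map q p hpi (isAlgebraic_coeff_of_isIntegral p hpint)
  have hmem : e ^ q ^ n ∈ F := by
    have h1 : aeval (R := k) v p' = (y • e) ^ q ^ n := by
      rw [← hpe, ← map_pow, ← hp', aeval_map_algebraMap]
    have h2 : (y • e) ^ q ^ n ∈ F := by
      rw [← h1]
      apply IntermediateField.algebra_adjoin_le_adjoin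
      rw [Algebra.adjoin_range_eq_range_aeval]
      exact ⟨p', rfl⟩
    rw [Algebra.smul_def, mul_pow] at h2
    have := mul_mem (inv_mem (pow_mem hyF (q ^ n))) h2
    rwa [← mul_assoc, show (algebraMap (MvPolynomial σ k) R) y = aeval (R := k) v y from rfl,
      inv_mul_cancel₀ (pow_ne_zero _ hyR), one_mul] at this
  have hbot : IntermediateField.adjoin F {e} = ⊥ := by
    rw [IntermediateField.adjoin_simple_eq_adjoin_pow_expChar_pow_of_isSeparable F R hs q n,
      IntermediateField.adjoin_simple_eq_bot_iff]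
    exact IntermediateField.mem_bot.2 ⟨⟨_, hmem⟩, rfl⟩
  obtain ⟨w, hw⟩ := IntermediateField.mem_bot.1 (IntermediateField.adjoin_simple_eq_bot_iff.1 hbot)
  exact hw ▸ w.2

end Groth.Agent.BertiniIrr4
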